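import Cfsg.Agent.H81.RationalExt.Setup
import Cfsg.Agent.S4937

/-!
# The correction on `N C(Q)`
-/

set_option autoImplicit false

open Cfsg.Agent.BlockBasic Cfsg.Agent.CharBasic

namespace Cfsg.Agent.H81.RationalExt

universe u

variable {p : ℕ} [hp : Fact p.Prime] {G : Type u} [Group G] [Finite G] (N : Subgroup G)
  [hN : N.Normal] (Q : Sylow p N) {M : Ideal AlgInt} (hM : IsPModular p M)

/-- The values at `p`-regular elements of `C(Q)` are congruent to the degree. -/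
def IsGood (M : Ideal AlgInt) (χ : G → ℂ) : Prop :=
  ∀ y ∈ Subgroup.centralizer (sylImage N Q : Set G), ¬ p ∣ orderOf y → ModM M (χ y / χ 1) 1

include hM

/-- In the principal block of `N⟨y⟩`, `y` a `p`-regular element of `C(Q)`, the ratio at `y` is one. -/
theorem ratio_one_of_sub {y : G} (hy : y ∈ Subgroup.centralizer (sylImage N Q : Set G))
    (hyp : ¬ p ∣ orderOf y) {ξ : IrrCharacter ↥(N ⊔ Subgroup.zpowers y)}
    (hξ : ξ ∈ principalBlock M ↥(N ⊔ Subgroup.zpowers y)) {f : G → ℂ}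
    (hf : ∀ x : ↥(N ⊔ Subgroup.zpowers y), (ξ : ↥(N ⊔ Subgroup.zpowers y) → ℂ) x = f x) :
    ModM M (f y / f 1) 1 := by
  have hyJ : y ∈ N ⊔ Subgroup.zpowers y := Subgroup.mem_sup_right (Subgroup.mem_zpowers y)
  have hidx : ¬ p ∣ ((sylImage N Q).subgroupOf (N ⊔ Subgroup.zpowers y)).index := by
    show ¬ p ∣ (sylImage N Q).relIndex (N ⊔ Subgroup.zpowers y)
    rw [← Subgroup.relIndex_mul_relIndex _ N _ (sylImage_le N Q) le_sup_left,
      Subgroup.relIndex_sup_left]
    refine hp.out.not_dvd_mul (not_dvd_relIndex N Q) fun h => hyp (h.trans ?_)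
    exact (Subgroup.relIndex_dvd_card _ _).trans (Nat.card_zpowers y).dvd
  have h := ratio_modM_one hM hidx hξ (y := ⟨y, hyJ⟩) (Subgroup.mem_centralizer_iff.2 fun x hx =>
    Subtype.ext (Subgroup.mem_centralizer_iff.1 hy x hx))
  rwa [hf, hf] at h

/-- An extension is corrected on `N C(Q)` by a linear character trivial on `N`. -/
theorem exists_hull_twist {θ : IrrCharacter N} (hθ : θ ∈ principalBlock M N) {ψ : G → ℂ}
    (hψ : IsIrrCharacter G ψ) (hψN : ∀ n : N, ψ n = (θ : N → ℂ) n) :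
    ∃ l : ↥(hull N Q) →* ℂˣ, (∀ x : hull N Q, (x : G) ∈ N → l x = 1) ∧
      ∀ y (hy : y ∈ Subgroup.centralizer (sylImage N Q : Set G)), ¬ p ∣ orderOf y →
        ModM M ((l ⟨y, mem_hull N Q hy⟩ : ℂ) * (ψ y / ψ 1)) 1 := by
  classical
  set H := hull N Q
  have hNH : N ≤ H := le_hull N Q
  let e := Subgroup.subgroupOfEquivOfLe hNH
  let Q' : Sylow p ↥(N.subgroupOf H) :=
    Q.mapSurjective (f := e.symm.toMonoidHom) e.symm.surjective
  have hQ' : (Q' : Subgroup ↥(N.subgroupOf H)) = (Q : Subgroup N).map e.symm.toMonoidHom :=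
    Sylow.coe_mapSurjective _ _
  have himg : sylImage (N.subgroupOf H) Q' = (sylImage N Q).subgroupOf H := by
    ext x
    constructor
    · intro hx
      obtain ⟨z, hz, rfl⟩ := Subgroup.mem_map.1 hx
      obtain ⟨w, hw, rfl⟩ := Subgroup.mem_map.1 (hQ' ▸ hz)
      exact Subgroup.mem_map.2 ⟨w, hw, rfl⟩
    · intro hx
      obtain ⟨w, hw, he⟩ := Subgroup.mem_map.1 (Subgroup.mem_subgroupOf.1 hx)
      refine Subgroup.mem_map.2 ⟨e.symm w, ?_, Subtype.ext he⟩
      rw [hQ']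
      exact Subgroup.mem_map.2 ⟨w, hw, rfl⟩
  let θ' := H83.irrComp e θ
  have hθ' : θ' ∈ principalBlock M ↥(N.subgroupOf H) := H83.irrComp_mem_principalBlock e hθ
  have hres : ∀ x : N.subgroupOf H, ψ ((x : H) : G) = (θ' : N.subgroupOf H → ℂ) x := fun x => by
    rw [H83.irrComp_apply]
    exact hψN (e x)
  haveI := Fintype.ofFinite (N.subgroupOf H)
  haveI := Fintype.ofFinite H
  have hψH : IsIrrCharacter H (fun h : H => ψ (h : G)) := by
    refine H85.isIrr_of_res (N.subgroupOf H).subtype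
      (CharInduce.IsChar.comp (CharBasic.IsIrr.isCharacter hψ) H.subtype) ?_
    rw [show (fun x : N.subgroupOf H => ψ (((N.subgroupOf H).subtype x : H) : G)) =
      (θ' : N.subgroupOf H → ℂ) from funext hres]
    exact θ'.2
  have hcov : N.subgroupOf H ⊔ Subgroup.centralizer
      ((((Q' : Subgroup ↥(N.subgroupOf H)).map (N.subgroupOf H).subtype : Subgroup H) : Set H)) =
      ⊤ := by
    rw [Subgroup.eq_top_iff']
    intro g
    obtain ⟨n, hn, c, hc, hnc⟩ := Subgroup.mem_sup_of_normal_left.1 g.2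
    have he : g = ⟨n, hNH hn⟩ * ⟨c, Subgroup.mem_sup_right hc⟩ := Subtype.ext hnc.symm
    rw [he]
    refine mul_mem (Subgroup.mem_sup_left (Subgroup.mem_subgroupOf.2 hn))
      (Subgroup.mem_sup_right (Subgroup.mem_centralizer_iff.2 fun x hx => ?_))
    have hx' : x ∈ sylImage (N.subgroupOf H) Q' := hx
    rw [himg] at hx'
    exact Subtype.ext (Subgroup.mem_centralizer_iff.1 hc x hx')
  obtain ⟨χH, -, hχN, hJ⟩ := S4937.result p M hM (N.subgroupOf H) Q' hcov θ' hθ'
    ⟨⟨_, hψH⟩, hres⟩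
  obtain ⟨l, hlN, hl⟩ := CharInduce.exists_hom_between_extensions θ'.2 hψH hres χH.2 hχN
  refine ⟨l, fun x hx => hlN x (Subgroup.mem_subgroupOf.2 hx), fun y hy hyp => ?_⟩
  set yH : H := ⟨y, mem_hull N Q hy⟩
  have hyH : yH ∈ Subgroup.centralizer (sylImage (N.subgroupOf H) Q' : Set H) := by
    rw [himg]
    exact Subgroup.mem_centralizer_iff.2 fun x hx =>
      Subtype.ext (Subgroup.mem_centralizer_iff.1 hy x hx)
  obtain ⟨ξ, hξ, hξe⟩ := hJ (N.subgroupOf H ⊔ Subgroup.zpowers yH) le_sup_left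
  have h := ratio_one_of_sub (N.subgroupOf H) Q' hM hyH
    (by rwa [← Subgroup.orderOf_coe]) hξ hξe
  simp only [hl, map_one, Units.val_one, one_mul] at h
  rw [← mul_div_assoc]
  exact h

end Cfsg.Agent.H81.RationalExt
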