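import Cfsg.Agent.H81.RationalExt.Local
import Cfsg.Agent.H81.EqualDegrees.NormalPair

/-!
# The `p`-rational extension in the principal block
-/

set_option autoImplicit false

open Cfsg.Agent.BlockBasic Cfsg.Agent.CharBasic

namespace Cfsg.Agent.H81.RationalExt

universe u

/-- Roots of unity of order prime to `p` are separated modulo `M`. -/
theorem eq_of_modM {p : ℕ} {M : Ideal AlgInt} (hM : IsPModular p M) {m : ℕ} (hm : ¬ p ∣ m)
    {z w : ℂ} (hz : z ^ m = 1) (hw : w ^ m = 1) (h : ModM M z w) : z = w := by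
  have hm0 : 0 < m := Nat.pos_of_ne_zero fun h => hm (h ▸ dvd_zero p)
  have hint : ∀ t : ℂ, t ^ m = 1 → IsIntegral ℤ t := fun t ht =>
    IsIntegral.of_pow hm0 (ht ▸ isIntegral_one)
  have hmem : (⟨z, hint z hz⟩ : AlgInt) - ⟨w, hint w hw⟩ ∈ M :=
    (memLocalIdeal_coe_iff hM _).1 h
  exact congrArg Subtype.val (root_unique hM hm hm (Subtype.ext hz) (Subtype.ext hw) hmem)

/-- An element killed by coprime exponents is trivial. -/
theorem eq_one_of_pows {A : Type*} [Monoid A] {x : A} {r s : ℕ} (hr : x ^ r = 1) (hs : x ^ s = 1)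
    (hco : r.Coprime s) : x = 1 := by
  have h := pow_gcd_eq_one.2 (⟨hr, hs⟩ : x ^ r = 1 ∧ x ^ s = 1)
  rwa [hco, pow_one] at h

variable {p : ℕ} [hp : Fact p.Prime] {G : Type u} [Group G] [Finite G] (N : Subgroup G)
  [hN : N.Normal] (Q : Sylow p N) {M : Ideal AlgInt} (hM : IsPModular p M)
  {θ : IrrCharacter N} (hθ : θ ∈ principalBlock M N) {v m₀ : ℕ}
  (hcard : Nat.card G = p ^ v * m₀) (hm₀ : ¬ p ∣ m₀)

include hcard in
theorem orderOf_dvd_of_regular {y : G} (hy : ¬ p ∣ orderOf y) : orderOf y ∣ m₀ := by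
  have h : orderOf y ∣ p ^ v * m₀ := hcard ▸ orderOf_dvd_natCard y
  exact ((hp.out.coprime_iff_not_dvd.2 hy).symm.pow_right v).dvd_of_dvd_mul_left h

variable {a : ℕ} (hidx : (hull N Q).index = p ^ a)

include hM hθ hcard hm₀ hidx

/-- An extension with good values at the `p`-regular elements of `C(Q)`. -/
theorem exists_good_twist (hdeg : ¬ p ∣ charDegree (θ : N → ℂ)) {ψ : G → ℂ}
    (hψ : IsIrrCharacter G ψ) (hψN : ∀ n : N, ψ n = (θ : N → ℂ) n) :
    ∃ L : G →* ℂˣ, (∀ n ∈ N, L n = 1) ∧ IsGood N Q M fun g => (L g : ℂ) * ψ g := by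
  classical
  cases nonempty_fintype G
  haveI := hull_normal N Q
  obtain ⟨l, hlN, hl⟩ := exists_hull_twist N Q hM hθ hψ hψN
  have hco : Nat.Coprime (p ^ v) m₀ := ((hp.out.coprime_iff_not_dvd).2 hm₀).pow_left v
  obtain ⟨e, he0, he1⟩ := Nat.chineseRemainder hco 0 1
  let l' : ↥(hull N Q) →* ℂˣ := l ^ e
  have hl'x : ∀ x : hull N Q, l' x ^ m₀ = 1 := fun x => by
    obtain ⟨c, hc⟩ := Nat.modEq_zero_iff_dvd.1 he0
    rw [MonoidHom.pow_apply, ← pow_mul, hc, mul_comm (p ^ v) c, mul_assoc, ← hcard, ← map_pow]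
    obtain ⟨d, hd⟩ := Subgroup.card_subgroup_dvd_card (hull N Q)
    rw [hd, mul_comm c, mul_assoc, pow_mul, pow_card_eq_one', one_pow, map_one]
  have hreg : ∀ y (hy : y ∈ Subgroup.centralizer (sylImage N Q : Set G)), ¬ p ∣ orderOf y →
      l' ⟨y, mem_hull N Q hy⟩ = l ⟨y, mem_hull N Q hy⟩ := fun y hy hyp => by
    rw [MonoidHom.pow_apply, ← map_pow]
    congr 1
    conv_rhs => rw [← pow_one (⟨y, mem_hull N Q hy⟩ : hull N Q)]
    exact pow_eq_pow_iff_modEq.2 (he1.of_dvd (by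
      rw [Subgroup.orderOf_mk]; exact orderOf_dvd_of_regular hcard hyp))
  have hψ1 : ψ 1 = (charDegree (θ : N → ℂ) : ℂ) := by
    have := hψN 1
    rw [(H83.charDegree_eq θ.2).1] at this
    exact this
  have hinvH : ∀ (g : G) (h : hull N Q), l' ⟨g * h * g⁻¹, (hull_normal N Q).conj_mem h h.2 g⟩ = l' h := by
    intro g
    let c : ↥(hull N Q) →* hull N Q := (MulAut.conjNormal g).toMonoidHom
    have hc : ∀ h : hull N Q, c h = ⟨g * h * g⁻¹, (hull_normal N Q).conj_mem h h.2 g⟩ := fun h =>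
      Subtype.ext rfl
    let K : Subgroup G := (MonoidHom.eqLocus (l'.comp c) l').map (hull N Q).subtype
    have hK : hull N Q ≤ K := by
      refine sup_le (fun x hx => ⟨⟨x, le_hull N Q hx⟩, ?_, rfl⟩) (fun x hx => ?_)
      · show l' (c _) = l' _
        rw [hc, MonoidHom.pow_apply, MonoidHom.pow_apply,
          hlN _ (show g * x * g⁻¹ ∈ N from hN.conj_mem x hx g), hlN _ hx]
      set s := pReg (p := p) x
      set u := pPart (p := p) x
      have hs : s ∈ Subgroup.centralizer (sylImage N Q : Set G) :=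
        (Subgroup.zpowers_le.2 hx) (EqualDegrees.pReg_mem_zpowers x)
      have hu : u ∈ Subgroup.centralizer (sylImage N Q : Set G) := by
        have h := mul_mem hx (inv_mem hs)
        have he : x * s⁻¹ = u := by
          rw [mul_inv_eq_iff_eq_mul]; exact (pPart_mul_pReg x).symm
        rwa [he] at h
      rw [← pPart_mul_pReg (p := p) x]
      refine mul_mem ⟨⟨u, mem_hull N Q hu⟩, ?_, rfl⟩
        ⟨⟨s, mem_hull N Q hs⟩, ?_, rfl⟩
      · obtain ⟨j, hj⟩ := exists_orderOf_pPart (p := p) x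
        have h1 : (⟨u, mem_hull N Q hu⟩ : hull N Q) ^ p ^ j = 1 :=
          Subtype.ext (by rw [Subgroup.coe_pow, ← hj]; exact pow_orderOf_eq_one u)
        have hco' : Nat.Coprime (p ^ j) m₀ := ((hp.out.coprime_iff_not_dvd).2 hm₀).pow_left j
        show l' (c _) = l' _
        rw [eq_one_of_pows (x := l' (c ⟨u, mem_hull N Q hu⟩))
          (by rw [← map_pow, ← map_pow, h1, map_one, map_one]) (hl'x _) hco',
          eq_one_of_pows (x := l' ⟨u, mem_hull N Q hu⟩)
            (by rw [← map_pow, h1, map_one]) (hl'x _) hco']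
      · show l' (c _) = l' _
        obtain ⟨n, hn, b, rfl, hb⟩ := exists_conj N Q g
        have hbs := hb s hs
        have hbo : orderOf (b * s * b⁻¹) = orderOf s :=
          orderOf_injective (MulAut.conj b).toMonoidHom (MulAut.conj b).injective s
        have hsp : ¬ p ∣ orderOf s := not_dvd_orderOf_pReg x
        have e1 : c ⟨s, mem_hull N Q hs⟩ = ⟨n, le_hull N Q hn⟩ *
            ⟨b * s * b⁻¹, mem_hull N Q hbs⟩ * ⟨n, le_hull N Q hn⟩⁻¹ := by
          rw [hc]
          refine Subtype.ext ?_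
          show n * b * s * (n * b)⁻¹ = n * (b * s * b⁻¹) * n⁻¹
          group
        have e2 : l' ⟨n, le_hull N Q hn⟩ = 1 := by
          rw [MonoidHom.pow_apply, hlN _ hn, one_pow]
        rw [e1, map_mul, map_mul, map_inv, e2, one_mul, inv_one, mul_one]
        have h1 := hl s hs hsp
        have h2 := hl _ hbs (hbo ▸ hsp)
        rw [← hreg s hs hsp] at h1
        rw [← hreg _ hbs (hbo ▸ hsp), CharBasic.IsIrr.isClassFunction hψ s b] at h2
        set z₁ : ℂ := (l' ⟨s, mem_hull N Q hs⟩ : ℂ)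
        set z₂ : ℂ := (l' ⟨b * s * b⁻¹, mem_hull N Q hbs⟩ : ℂ)
        have hz₁ : z₁ ^ m₀ = 1 := by rw [← Units.val_pow_eq_pow_val, hl'x, Units.val_one]
        have hz₂ : z₂ ^ m₀ = 1 := by rw [← Units.val_pow_eq_pow_val, hl'x, Units.val_one]
        have hr : ∀ t : ℂ, t ^ m₀ = 1 → MemLocalRing M t := fun t ht =>
          memLocalRing_of_isIntegral hM (IsIntegral.of_pow
            (show 0 < m₀ from Nat.pos_of_ne_zero fun h => hm₀ (h ▸ dvd_zero p))
            (ht ▸ isIntegral_one))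
        refine Units.ext (eq_of_modM hM hm₀ hz₂ hz₁ ?_)
        have e3 := (h1.mul_left hM (hr z₂ hz₂)).symm
        have e4 := h2.mul_left hM (hr z₁ hz₁)
        rw [mul_one] at e3 e4
        refine e3.trans hM ?_
        rwa [mul_left_comm] at e4
    intro h
    obtain ⟨h', hh', heq⟩ := hK h.2
    obtain rfl : h' = h := Subtype.ext heq
    rw [← hc]
    exact hh'
  have hord : orderOf l' ∣ m₀ :=
    orderOf_dvd_iff_pow_eq_one.2 (MonoidHom.ext fun x => hl'x x)
  obtain ⟨L, hLH, -, -⟩ := CharInduce.exists_hom_extension_coprime l' hinvH (by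
    rw [hidx]
    exact (((hp.out.coprime_iff_not_dvd).2 hm₀).pow_left a).coprime_dvd_right hord)
  refine ⟨L, fun n hn => ?_, fun y hy hyp => ?_⟩
  · rw [hLH ⟨n, le_hull N Q hn⟩, MonoidHom.pow_apply, hlN _ hn, one_pow]
  · show ModM M ((L y : ℂ) * ψ y / ((L 1 : ℂ) * ψ 1)) 1
    rw [map_one, Units.val_one, one_mul, hLH ⟨y, mem_hull N Q hy⟩, hreg y hy hyp,
      mul_div_assoc]
    exact hl y hy hyp

/-- An extension with good values whose determinant has order prime to `p`. -/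
theorem exists_good_det (hdeg : ¬ p ∣ charDegree (θ : N → ℂ))
    (hdet : ¬ p ∣ detOrder (θ : N → ℂ)) {ψ : G → ℂ}
    (hψ : IsIrrCharacter G ψ) (hψN : ∀ n : N, ψ n = (θ : N → ℂ) n) :
    ∃ χ : G → ℂ, IsIrrCharacter G χ ∧ (∀ n : N, χ n = (θ : N → ℂ) n) ∧ IsGood N Q M χ ∧
      ∀ g, detChar χ g ^ m₀ = 1 := by
  classical
  cases nonempty_fintype G
  obtain ⟨L, hLN, hgood⟩ := exists_good_twist N Q hM hθ hcard hm₀ hidx hdeg hψ hψN
  set d := charDegree (θ : N → ℂ) with hddef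
  set χ₁ : G → ℂ := fun g => (L g : ℂ) * ψ g with hχ₁def
  have hχ₁ : IsIrrCharacter G χ₁ := CharInduce.isIrr_hom_mul hψ L
  have hres₁ : ∀ n : N, χ₁ n = (θ : N → ℂ) n := fun n => by
    simp [hχ₁def, hLN n n.2, hψN]
  have h1d : χ₁ 1 = d := by
    have := hres₁ 1
    rw [(H83.charDegree_eq θ.2).1] at this
    exact this
  have hχ₁c := CharBasic.IsIrr.isCharacter hχ₁
  obtain ⟨D, hD⟩ := CharInduce.exists_detChar_eq_hom hχ₁c
  obtain ⟨D₀, hD₀⟩ := CharInduce.exists_detChar_eq_hom (CharBasic.IsIrr.isCharacter θ.2)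
  have hco : Nat.Coprime (p ^ v) m₀ := ((hp.out.coprime_iff_not_dvd).2 hm₀).pow_left v
  obtain ⟨e, he1, he0⟩ := Nat.chineseRemainder hco 1 0
  have hDcard : D ^ (p ^ v * m₀) = 1 := hcard ▸ CharInduce.hom_pow_card D
  have hDN : ∀ n ∈ N, (D ^ e) n = 1 := fun n hn => by
    have h1 : D n = D₀ ⟨n, hn⟩ := Units.ext (by
      rw [← congrFun hD, CharInduce.detChar_res N hχ₁c hres₁ ⟨n, hn⟩, hD₀])
    rw [detOrder, hD₀, CharInduce.orderOf_homFun] at hdet
    have h2 : orderOf D₀ ∣ m₀ := by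
      have h3 : orderOf D₀ ∣ p ^ v * m₀ :=
        hcard ▸ (CharInduce.orderOf_hom_dvd_card D₀).trans (Subgroup.card_subgroup_dvd_card N)
      exact ((hp.out.coprime_iff_not_dvd.2 hdet).symm.pow_right v).dvd_of_dvd_mul_left h3
    rw [MonoidHom.pow_apply, h1, ← MonoidHom.pow_apply,
      orderOf_dvd_iff_pow_eq_one.1 (h2.trans (Nat.modEq_zero_iff_dvd.1 he0)), MonoidHom.one_apply]
  set f := (D ^ e)⁻¹ with hfdef
  have hfp : f ^ (p ^ v) = 1 := by
    obtain ⟨c, hc⟩ := Nat.modEq_zero_iff_dvd.1 he0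
    refine MonoidHom.ext fun x => ?_
    have hx : D x ^ (p ^ v * m₀) = 1 := DFunLike.congr_fun hDcard x
    show ((D x ^ e)⁻¹) ^ p ^ v = 1
    rw [inv_pow, ← pow_mul, hc, mul_comm (m₀ * c), ← mul_assoc, pow_mul, hx, one_pow, inv_one]
  obtain ⟨r, s, hrs⟩ := CharInduce.exists_int_inverse
    (((hp.out.coprime_iff_not_dvd).2 hdeg).symm.pow_right v)
  set μ := f ^ r with hμdef
  have hμd : μ ^ d = f := (CharInduce.bezout_pow f hfp hrs).1
  have hμp : μ ^ (p ^ v) = 1 := by
    refine MonoidHom.ext fun x => ?_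
    have hx : f x ^ p ^ v = 1 := DFunLike.congr_fun hfp x
    show (f x ^ r) ^ p ^ v = 1
    rw [← zpow_natCast, ← zpow_mul, mul_comm, zpow_mul, zpow_natCast, hx, one_zpow]
  have hμN : ∀ n ∈ N, μ n = 1 := fun n hn => by
    rw [hμdef, MonoidHom.zpow_apply, hfdef, MonoidHom.inv_apply, hDN n hn, inv_one, one_zpow]
  refine ⟨fun g => (μ g : ℂ) * χ₁ g, CharInduce.isIrr_hom_mul hχ₁ μ, fun n => ?_,
    fun y hy hyp => ?_, fun g => ?_⟩
  · show (μ n : ℂ) * χ₁ n = _
    rw [hμN n n.2, Units.val_one, one_mul, hres₁]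
  · have hμy : μ y = 1 := eq_one_of_pows
      (by rw [← MonoidHom.pow_apply, hμp, MonoidHom.one_apply])
      (by rw [← map_pow, orderOf_dvd_iff_pow_eq_one.1 (orderOf_dvd_of_regular hcard hyp), map_one])
      hco
    show ModM M ((μ y : ℂ) * χ₁ y / ((μ 1 : ℂ) * χ₁ 1)) 1
    rw [map_one, hμy, Units.val_one, one_mul, one_mul]
    exact hgood y hy hyp
  · rw [CharInduce.detChar_mul_hom hχ₁c μ h1d g, hD]
    show ((μ g : ℂ) ^ d * (D g : ℂ)) ^ m₀ = 1
    rw [← Units.val_pow_eq_pow_val, ← Units.val_mul, ← Units.val_pow_eq_pow_val,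
      ← MonoidHom.pow_apply, hμd, ← MonoidHom.mul_apply, ← MonoidHom.pow_apply, hfdef, mul_pow,
      inv_pow, ← pow_mul, pow_eq_pow_mod (e * m₀) hDcard,
      show e * m₀ % (p ^ v * m₀) = (1 * m₀) % (p ^ v * m₀) from Nat.ModEq.mul_right' m₀ he1,
      ← pow_eq_pow_mod (1 * m₀) hDcard, one_mul, inv_mul_cancel, MonoidHom.one_apply,
      Units.val_one]

omit hθ in
/-- A good extension with determinant of order prime to `p` is fixed by the automorphisms that fix
`θ` and the roots of unity of order `m₀`. -/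
theorem good_fixed (hdeg : ¬ p ∣ charDegree (θ : N → ℂ)) {χ : G → ℂ} (hχ : IsIrrCharacter G χ)
    (hres : ∀ n : N, χ n = (θ : N → ℂ) n) (hgood : IsGood N Q M χ)
    (hdet : ∀ g, detChar χ g ^ m₀ = 1) (σ : ℂ ≃+* ℂ) (hσ : ∀ z : ℂ, z ^ m₀ = 1 → σ z = z)
    (hσθ : ∀ n, σ ((θ : N → ℂ) n) = (θ : N → ℂ) n) (g : G) : σ (χ g) = χ g := by
  classical
  cases nonempty_fintype G
  haveI := hull_normal N Q
  obtain ⟨ν, hνN, hν⟩ := CharInduce.exists_hom_between_extensions θ.2 hχ hres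
    (H43.aut_irr σ hχ) (fun n => by rw [hres, hσθ])
  set d := charDegree (θ : N → ℂ)
  have h1d : χ 1 = d := by
    have := hres 1
    rw [(H83.charDegree_eq θ.2).1] at this
    exact this
  have hχc := CharBasic.IsIrr.isCharacter hχ
  obtain ⟨D, hD⟩ := CharInduce.exists_detChar_eq_hom hχc
  have hνd : ∀ x, ν x ^ d = 1 := fun x => by
    have h := congrFun (H73.PRat.aut_detChar σ hχc) x
    rw [hν, CharInduce.detChar_mul_hom hχc ν h1d x, hσ _ (hdet x)] at h
    refine Units.ext ?_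
    rw [Units.val_pow_eq_pow_val, Units.val_one]
    refine (mul_eq_right₀ ?_).1 h
    rw [hD]
    exact (D x).ne_zero
  have hνH : hull N Q ≤ ν.ker := by
    refine sup_le (fun x hx => hνN x hx) fun x hx => ?_
    rw [MonoidHom.mem_ker, ← pPart_mul_pReg (p := p) x, map_mul]
    have hs : pReg (p := p) x ∈ Subgroup.centralizer (sylImage N Q : Set G) :=
      (Subgroup.zpowers_le.2 hx) (EqualDegrees.pReg_mem_zpowers x)
    obtain ⟨j, hj⟩ := exists_orderOf_pPart (p := p) x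
    have h1 : ν (pPart (p := p) x) = 1 := eq_one_of_pows
      (by rw [← map_pow, ← hj, pow_orderOf_eq_one, map_one]) (hνd _)
      (((hp.out.coprime_iff_not_dvd).2 hdeg).pow_left j)
    have hsp := not_dvd_orderOf_pReg (p := p) x
    have hne : χ (pReg (p := p) x) ≠ 0 := by
      intro h0
      have h := hgood _ hs hsp
      rw [h0, zero_div] at h
      have h' := memLocalIdeal_neg h
      rw [neg_sub, sub_zero, show (1 : ℂ) = ((1 : ℕ) : ℂ) from Nat.cast_one.symm] at h'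
      exact hp.out.not_dvd_one ((memLocalIdeal_natCast_iff hM 1).1 h')
    have h2 : σ (χ (pReg (p := p) x)) = χ (pReg (p := p) x) :=
      H43.aut_eq_on_value (H43.gen_of_char hχc) _ σ (RingEquiv.refl ℂ) fun z hz => hσ z (by
        obtain ⟨c, hc⟩ := orderOf_dvd_of_regular hcard hsp
        rw [hc, pow_mul, hz, one_pow])
    rw [congrFun hν] at h2
    rw [h1, one_mul]
    exact Units.ext ((mul_eq_right₀ hne).1 h2)
  have hg : ν g = 1 := eq_one_of_pows
    (by rw [← map_pow]; exact hνH (hidx ▸ (hull N Q).pow_index_mem g)) (hνd g)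
    (((hp.out.coprime_iff_not_dvd).2 hdeg).pow_left a)
  rw [congrFun hν g, hg, Units.val_one, one_mul]

omit hθ hcard hm₀ hidx in
/-- A good extension lies in the principal block. -/
theorem good_mem_principalBlock (hdeg : ¬ p ∣ charDegree (θ : N → ℂ)) (χ : IrrCharacter G)
    (hres : ∀ n : N, (χ : G → ℂ) n = (θ : N → ℂ) n) (hgood : IsGood N Q M (χ : G → ℂ)) :
    χ ∈ principalBlock M G := by
  classical
  cases nonempty_fintype G
  have hd : charDegree (χ : G → ℂ) = charDegree (θ : N → ℂ) := by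
    have h := hres 1
    rw [(H83.charDegree_eq θ.2).1, Subgroup.coe_one, (H83.charDegree_eq χ.2).1, Nat.cast_inj] at h
    exact h
  rw [H82.mem_principalBlock_iff]
  intro g
  set k := (Subgroup.centralizer ({g} : Set G)).index
  by_cases hk : p ∣ k
  · exact memLocalIdeal_sub hM ((memLocalIdeal_natCast_iff hM _).2 hk)
      (modM_zero_iff.1 (centralChar_modM_zero hM χ (hd ▸ hdeg) hk))
  obtain ⟨S, hS⟩ := H82.exists_sylow_le_centralizer (p := p) hk
  obtain ⟨P, hP⟩ := (Q.isPGroup'.map N.subtype).exists_le_sylow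
  obtain ⟨h, rfl⟩ := MulAction.exists_smul_eq G P S
  set y := h⁻¹ * g * h with hy'
  have hy : y ∈ Subgroup.centralizer (sylImage N Q : Set G) := by
    rw [Subgroup.mem_centralizer_iff]
    intro x hx
    have h1 : h * x * h⁻¹ ∈ Subgroup.centralizer ({g} : Set G) := hS ⟨x, hP hx, rfl⟩
    rw [Subgroup.mem_centralizer_singleton_iff] at h1
    calc x * (h⁻¹ * g * h) = h⁻¹ * ((h * x * h⁻¹) * g) * h := by group
      _ = h⁻¹ * (g * (h * x * h⁻¹)) * h := by rw [h1]
      _ = h⁻¹ * g * h * x := by group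
  have hs : pReg (p := p) y ∈ Subgroup.centralizer (sylImage N Q : Set G) :=
    (Subgroup.zpowers_le.2 hy) (EqualDegrees.pReg_mem_zpowers y)
  have hχc := CharBasic.IsIrr.isCharacter χ.2
  obtain ⟨j, hj⟩ := exists_orderOf_pPart (p := p) y
  have h1 : ModM M ((χ : G → ℂ) y) ((χ : G → ℂ) (pReg (p := p) y)) := by
    have := char_modM_mul hM hχc (commute_pPart_pReg (p := p) y) hj (not_dvd_orderOf_pReg y)
    rwa [pPart_mul_pReg] at this
  have hring : MemLocalRing M ((χ : G → ℂ) 1)⁻¹ := by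
    rw [(H83.charDegree_eq χ.2).1]
    exact memLocalRing_natCast_inv hM (hd ▸ hdeg)
  have h2 : ModM M ((χ : G → ℂ) y / (χ : G → ℂ) 1) 1 :=
    (div_eq_mul_inv ((χ : G → ℂ) y) _ ▸ div_eq_mul_inv ((χ : G → ℂ) (pReg (p := p) y)) _ ▸
      h1.mul_right hM hring).trans hM (hgood _ hs (not_dvd_orderOf_pReg y))
  have hgy : (χ : G → ℂ) g = (χ : G → ℂ) y := by
    have := CharBasic.IsIrr.isClassFunction χ.2 y h
    rw [← this]
    congr 1
    rw [hy']
    group
  have h3 := (h2.mul_left hM (memLocalRing_natCast hM k)).symm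
  rw [mul_one] at h3
  rw [centralChar, hgy, mul_div_assoc]
  exact h3

end Cfsg.Agent.H81.RationalExt
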