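import Cfsg.Agent.H81.DadeExtend
import Cfsg.Agent.H73.PRationalExt
import Cfsg.Agent.H86.FieldOfValues
import Mathlib.GroupTheory.Sylow

/-!
# Invariant `p`-rational characters of the principal block: existence of extensions

`N` is normal, `Q` is the image of a Sylow `p`-subgroup of `N` and `N C(Q)` has `p`-power index.
-/

set_option autoImplicit false

open Cfsg.Agent.BlockBasic Cfsg.Agent.CharBasic

namespace Cfsg.Agent.H81.RationalExt

universe u

/-- A `p`-rational character has determinantal order prime to `p`, for odd `p`. -/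
theorem not_dvd_detOrder {X : Type*} [Group X] [Finite X] {p : ℕ} [hp : Fact p.Prime] (hp2 : p ≠ 2)
    {θ : X → ℂ} (hθ : IsCharacter X θ) {m : ℕ} (hm : ¬ p ∣ m)
    (hrat : ∀ x, θ x ∈ IntermediateField.adjoin ℚ
      ({Complex.exp (2 * Real.pi * Complex.I / m)} : Set ℂ)) :
    ¬ p ∣ detOrder θ := by
  obtain ⟨D, hD⟩ := CharInduce.exists_detChar_eq_hom hθ
  rw [detOrder, hD, CharInduce.orderOf_homFun]
  intro hdvd
  obtain ⟨c, hc⟩ := hdvd
  have hm0 : m ≠ 0 := fun h => hm (h ▸ dvd_zero p)
  obtain ⟨k, hk1, hk2⟩ := Nat.chineseRemainder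
    ((hp.out.coprime_iff_not_dvd.2 hm)) 2 1
  have hk : k.Coprime (p * m) := by
    refine Nat.Coprime.mul_right ?_ ?_
    · rw [Nat.Coprime, Nat.ModEq.gcd_eq hk1]
      exact (Nat.coprime_primes Nat.prime_two hp.out).2 (Ne.symm hp2)
    · rw [Nat.Coprime, Nat.ModEq.gcd_eq hk2]
      exact Nat.gcd_one_left m
  obtain ⟨σ, hσ⟩ := H43.exists_aut_pow (Nat.mul_ne_zero hp.out.ne_zero hm0) hk
  have hζ := (Complex.isPrimitiveRoot_exp m hm0).pow_eq_one
  have hfix : ∀ x, σ (θ x) = θ x := fun x =>
    H86.fixed_of_mem_adjoin σ (fun s hs => by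
      rw [Set.mem_singleton_iff] at hs
      subst hs
      rw [hσ _ (by rw [mul_comm p m, pow_mul, hζ, one_pow])]
      conv_rhs => rw [← pow_one (Complex.exp (2 * Real.pi * Complex.I / m))]
      exact pow_eq_pow_mod k hζ |>.trans (by rw [hk2]; exact (pow_eq_pow_mod 1 hζ).symm)) (hrat x)
  have hdet : ∀ x, σ (D x : ℂ) = (D x : ℂ) := fun x => by
    have h := congrFun (H73.PRat.aut_detChar σ hθ) x
    rw [funext hfix, hD] at h
    exact h.symm
  have hDc : D ^ c = 1 := by
    refine MonoidHom.ext fun x => Units.ext ?_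
    rw [MonoidHom.pow_apply, MonoidHom.one_apply, Units.val_one, Units.val_pow_eq_pow_val]
    set z := (D x : ℂ) ^ c with hz
    have hzp : z ^ p = 1 := by
      rw [hz, ← pow_mul, mul_comm, ← hc, ← Units.val_pow_eq_pow_val, ← MonoidHom.pow_apply,
        pow_orderOf_eq_one, MonoidHom.one_apply, Units.val_one]
    have h1 : σ z = z := by rw [hz, map_pow, hdet]
    rw [hσ z (by rw [pow_mul, hzp, one_pow]), pow_eq_pow_mod k hzp, hk1, ← pow_eq_pow_mod 2 hzp,
      sq] at h1
    exact mul_right_eq_self₀.1 h1 |>.resolve_right (by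
      rintro h0
      rw [h0, zero_pow hp.out.ne_zero] at hzp
      exact zero_ne_one hzp)
  have h1 : orderOf D ∣ c := orderOf_dvd_iff_pow_eq_one.2 hDc
  rw [hc] at h1
  have hc0 : 0 < c := by
    rcases Nat.eq_zero_or_pos c with h | h
    · exact absurd hc (by rw [h, mul_zero]; exact (CharInduce.orderOf_hom_pos D).ne')
    · exact h
  have h2 := Nat.le_of_dvd hc0 h1
  have h3 : 2 * c ≤ p * c := Nat.mul_le_mul_right c hp.out.two_le
  omega

variable {p : ℕ} [hp : Fact p.Prime] {G : Type u} [Group G] [Finite G] (N : Subgroup G)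
  [hN : N.Normal] (Q : Sylow p N)

/-- The Sylow subgroup of `N` as a subgroup of `G`. -/
def sylImage : Subgroup G := (Q : Subgroup N).map N.subtype

/-- `N C(Q)`. -/
def hull : Subgroup G := N ⊔ Subgroup.centralizer (sylImage N Q : Set G)

omit hp [Finite G] hN in
theorem sylImage_le : sylImage N Q ≤ N := Subgroup.map_subtype_le _

omit [Finite G] hN in
theorem subgroupOf_sylImage : (sylImage N Q).subgroupOf N = Q :=
  Subgroup.comap_map_eq_self_of_injective N.subtype_injective _

omit hN in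
theorem not_dvd_relIndex : ¬ p ∣ (sylImage N Q).relIndex N := by
  rw [Subgroup.relIndex, subgroupOf_sylImage]
  exact Q.not_dvd_index

omit [Finite G] hN in
theorem le_hull : N ≤ hull N Q := le_sup_left

omit [Finite G] hN in
theorem mem_hull {y : G} (hy : y ∈ Subgroup.centralizer (sylImage N Q : Set G)) : y ∈ hull N Q :=
  Subgroup.mem_sup_right hy

/-- `G = N N(Q)`. -/
theorem exists_conj (g : G) : ∃ n ∈ N, ∃ b : G, g = n * b ∧
    ∀ c ∈ Subgroup.centralizer (sylImage N Q : Set G),
      b * c * b⁻¹ ∈ Subgroup.centralizer (sylImage N Q : Set G) := by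
  have hg : g ∈ N ⊔ Subgroup.normalizer ((sylImage N Q : Subgroup G) : Set G) := by
    rw [sup_comm, sylImage, Sylow.normalizer_sup_eq_top Q]
    exact Subgroup.mem_top g
  obtain ⟨n, hn, b, hb, rfl⟩ := Subgroup.mem_sup_of_normal_left.1 hg
  refine ⟨n, hn, b, rfl, fun c hc => Subgroup.mem_centralizer_iff.2 fun x hx => ?_⟩
  have hx' : b⁻¹ * x * b ∈ sylImage N Q := by
    have := (Subgroup.mem_normalizer_iff.1 (inv_mem hb) x).1 hx
    simpa using this
  have h := Subgroup.mem_centralizer_iff.1 hc _ hx'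
  calc x * (b * c * b⁻¹) = b * ((b⁻¹ * x * b) * c) * b⁻¹ := by group
    _ = b * (c * (b⁻¹ * x * b)) * b⁻¹ := by rw [h]
    _ = b * c * b⁻¹ * x := by group

theorem hull_normal : (hull N Q).Normal := by
  refine ⟨fun h hh g => ?_⟩
  obtain ⟨n, hn, b, rfl, hb⟩ := exists_conj N Q g
  have h1 : hull N Q ≤ (hull N Q).comap (MulAut.conj b).toMonoidHom := by
    refine sup_le (fun x hx => ?_) (fun x hx => ?_)
    · exact le_hull N Q (hN.conj_mem x hx b)
    · exact Subgroup.mem_sup_right (hb x hx)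
  have h2 : b * h * b⁻¹ ∈ hull N Q := h1 hh
  have hnH := le_hull N Q hn
  have h3 := mul_mem (mul_mem hnH h2) (inv_mem hnH)
  convert h3 using 1
  group

/-- An intermediate subgroup of `N C(Q)`, of index over `N` prime to `p`, carries a Dade pair. -/
theorem isDadePair {L : Subgroup G} (hNL : N ≤ L) (hLH : L ≤ hull N Q)
    (hidx : ¬ p ∣ N.relIndex L) :
    IsDadePair p (N.subgroupOf L) ((sylImage N Q).subgroupOf L) where
  le := Subgroup.comap_mono (sylImage_le N Q)
  index := by
    show ¬ p ∣ (sylImage N Q).relIndex L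
    rw [← Subgroup.relIndex_mul_relIndex _ N L (sylImage_le N Q) hNL]
    exact hp.out.not_dvd_mul (not_dvd_relIndex N Q) hidx
  cover := fun g => by
    obtain ⟨n, hn, c, hc, hnc⟩ := Subgroup.mem_sup_of_normal_left.1 (hLH g.2)
    have hcL : c ∈ L := by
      have h := mul_mem (inv_mem (hNL hn)) g.2
      rwa [← hnc, inv_mul_cancel_left] at h
    refine ⟨⟨c, hcL⟩, Subgroup.mem_centralizer_iff.2 fun x hx =>
      Subtype.ext (Subgroup.mem_centralizer_iff.1 hc x hx), ?_⟩
    show (g : G)⁻¹ * c ∈ N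
    rw [← hnc]
    have := hN.conj_mem _ (inv_mem hn) c⁻¹
    simpa [mul_assoc] using this

variable {M : Ideal AlgInt} (hM : IsPModular p M) (θ : IrrCharacter N)
  (hinv : ∀ (g : G) (n : N), (θ : N → ℂ) ⟨g * n * g⁻¹, hN.conj_mem n n.2 g⟩ = (θ : N → ℂ) n)

include hM hinv

/-- An extension to `G` exists. -/
theorem exists_extension (hp2 : p ≠ 2) (hdeg : ¬ p ∣ charDegree (θ : N → ℂ)) {m : ℕ} (hm : ¬ p ∣ m)
    (hrat : ∀ n, (θ : N → ℂ) n ∈ IntermediateField.adjoin ℚ
      ({Complex.exp (2 * Real.pi * Complex.I / m)} : Set ℂ))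
    (hθ : θ ∈ principalBlock M N) {a : ℕ} (hidx : (hull N Q).index = p ^ a) :
    ∃ ψ : G → ℂ, IsIrrCharacter G ψ ∧ ∀ n : N, ψ n = (θ : N → ℂ) n := by
  classical
  cases nonempty_fintype G
  haveI := Fintype.ofFinite N
  haveI := hull_normal N Q
  obtain ⟨d, ρ, hρ, hρθ⟩ := θ.2
  obtain ⟨χ, hχ, hχN⟩ := H35.Extend.exists_extension_local (N := N) ρ
    (fun g n => by rw [hρθ]; exact hinv g n) (fun q hq => by
      haveI : Fact q.Prime := ⟨hq⟩
      obtain ⟨T⟩ : Nonempty (Sylow q (G ⧸ N)) := inferInstance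
      let L := (T : Subgroup (G ⧸ N)).comap (QuotientGroup.mk' N)
      have hNL : N ≤ L := fun n hn => by
        show (n : G ⧸ N) ∈ (T : Subgroup (G ⧸ N))
        rw [(QuotientGroup.eq_one_iff n).2 hn]; exact one_mem _
      obtain ⟨j, hj⟩ := IsPGroup.iff_card.1 T.isPGroup'
      have hLi : L.index = (T : Subgroup (G ⧸ N)).index :=
        Subgroup.index_comap_of_surjective _ (QuotientGroup.mk'_surjective N)
      have hrel : (N.subgroupOf L).index = q ^ j := by
        have h := Subgroup.relIndex_mul_index hNL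
        rw [hLi, Subgroup.index_eq_card (H := N), ← (T : Subgroup (G ⧸ N)).card_mul_index, hj] at h
        exact Nat.eq_of_mul_eq_mul_right
          (Nat.pos_of_ne_zero Subgroup.index_ne_zero_of_finite) h
      haveI := Fintype.ofFinite L
      haveI := Fintype.ofFinite (N.subgroupOf L)
      let θ' := H83.irrComp (Subgroup.subgroupOfEquivOfLe hNL) θ
      have hθ'a : ∀ x : N.subgroupOf L, (θ' : N.subgroupOf L → ℂ) x =
          (θ : N → ℂ) ⟨(x : L), x.2⟩ := fun x => by
        rw [H83.irrComp_apply]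
        exact congrArg (θ : N → ℂ) (Subtype.ext rfl)
      have hfin : ∀ φ : L → ℂ, IsIrrCharacter L φ →
          (∀ x : N.subgroupOf L, φ x = (θ' : N.subgroupOf L → ℂ) x) →
          ∃ (P : Subgroup G) (hNP : N ≤ P) (σ : Representation ℂ P (Fin d → ℂ)), ¬ q ∣ P.index ∧
            ∀ n : N, σ ⟨(n : G), hNP n.2⟩ = ρ n := by
        intro φ hφ hφN
        obtain ⟨l, σ, hσ, hσφ⟩ := hφ
        obtain ⟨σ', hσ'⟩ := H35.Extend.exists_conj_restrict (Subgroup.inclusion hNL) ρ σ
          (fun b => by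
            rw [hσφ, hρθ]
            exact (hφN ⟨⟨b, hNL b.2⟩, b.2⟩).trans ((hθ'a _).trans
              (congrArg (θ : N → ℂ) (Subtype.ext rfl))))
        exact ⟨L, hNL, σ', fun h => T.not_dvd_index (hLi ▸ h), hσ'⟩
      by_cases hqp : q = p
      · subst hqp
        obtain ⟨hd1, -⟩ := H83.charDegree_eq θ'.2
        have hdeq : charDegree (θ' : N.subgroupOf L → ℂ) = charDegree (θ : N → ℂ) := by
          have h1 := (H83.charDegree_eq θ.2).1
          rw [hθ'a, show (⟨((1 : N.subgroupOf L) : L), (1 : N.subgroupOf L).2⟩ : N) = 1 from rfl,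
            h1, Nat.cast_inj] at hd1
          exact hd1.symm
        have hdet : ¬ q ∣ detOrder (θ' : N.subgroupOf L → ℂ) :=
          not_dvd_detOrder hp2 (CharBasic.IsIrr.isCharacter θ'.2) hm fun x => by
            rw [hθ'a]; exact hrat _
        obtain ⟨φ, hφ, hφN⟩ := CharInduce.exists_extension_of_coprime (N := N.subgroupOf L) θ'.2
          (fun g x => by
            rw [hθ'a, hθ'a]
            exact hinv (g : G) ⟨((x : L) : G), x.2⟩) hd1
          (by
            rw [hrel]
            exact (hq.coprime_iff_not_dvd.2 (hq.not_dvd_mul hdet (hdeq ▸ hdeg))).pow_left j)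
        exact hfin φ hφ hφN
      · have hndj : ¬ p ∣ q ^ j := fun h =>
          hqp ((Nat.prime_dvd_prime_iff_eq hp.out hq).1 (hp.out.dvd_of_dvd_pow h)).symm
        have hLH : L ≤ hull N Q := by
          intro x hx
          rw [← QuotientGroup.eq_one_iff, ← orderOf_eq_one_iff]
          refine Nat.eq_one_of_dvd_coprimes (a := q ^ j) (b := (hull N Q).index) ?_ ?_ ?_
          · rw [hidx]; exact ((Nat.coprime_primes hq hp.out).2 hqp).pow j a
          · have h1 : x ^ q ^ j ∈ hull N Q := le_hull N Q (by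
              rw [← hrel]
              exact Subgroup.mem_subgroupOf.1 ((N.subgroupOf L).pow_index_mem ⟨x, hx⟩))
            refine orderOf_dvd_of_pow_eq_one ?_
            rw [← QuotientGroup.mk_pow, QuotientGroup.eq_one_iff]
            exact h1
          · rw [Subgroup.index_eq_card]
            exact orderOf_dvd_natCard _
        obtain ⟨φ, -, hφN⟩ := exists_extension_prime_power hM q j L (N.subgroupOf L)
          ((sylImage N Q).subgroupOf L)
          (isDadePair N Q hNL hLH (fun h => hndj (by rwa [Subgroup.relIndex, hrel] at h))) hrel θ'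
          (H83.irrComp_mem_principalBlock (Subgroup.subgroupOfEquivOfLe hNL) hθ)
        exact hfin φ φ.2 hφN)
  exact ⟨χ, hχ, fun n => by rw [hχN, hρθ]⟩

end Cfsg.Agent.H81.RationalExt
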